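import Mathlib

/-!
# Central `p`-elements of rank one groups

If `E ⊴ Q` has `Q/E` a `p`-group and `E` is of rank one at `p` (`Rank1Data`), then no non-trivial
element of a Sylow `p`-subgroup of `Q` centralises the normaliser of that Sylow subgroup,
provided `Q` has no non-trivial normal `p`-subgroup.

Owner: helper4.
-/

set_option autoImplicit false
set_option linter.unusedSectionVars false
set_option linter.style.haveILetI false

namespace Cfsg.Agent.Lib.RankOneCentre

open scoped Pointwise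

variable {p : ℕ} [Fact p.Prime]

/-- Generation by `p`-elements, `|Syl_p| = |U| + 1`, trivial intersections, and an element of a
two-Sylow normaliser without fixed points on `U` which acts by a power map on the centre of `U`. -/
structure Rank1Data (p : ℕ) (E : Type*) [Group E] : Prop where
  gen : Subgroup.closure {x : E | ∃ n : ℕ, x ^ p ^ n = 1} = ⊤
  count : ∀ U : Sylow p E, Nat.card (Sylow p E) = Nat.card U + 1
  ti : ∀ U V : Sylow p E, U ≠ V → ∀ x ∈ U, x ∈ V → x = 1
  torus : ∃ (U V : Sylow p E) (h : E), U ≠ V ∧ h • U = U ∧ h • V = V ∧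
    (∀ u ∈ U, h * u * h⁻¹ = u → u = 1) ∧
    ∃ k : ℕ, ¬ k ≡ 1 [MOD p] ∧ ∀ c ∈ U, (∀ u ∈ U, c * u = u * c) → h * c * h⁻¹ = c ^ k

theorem mem_smul_sylow {E : Type*} [Group E] {g : E} {U : Sylow p E} {x : E} :
    x ∈ g • U ↔ g⁻¹ * x * g ∈ U := by
  show x ∈ ((g • U : Sylow p E) : Subgroup E) ↔ g⁻¹ * x * g ∈ (U : Subgroup E)
  rw [Sylow.coe_subgroup_smul, Subgroup.mem_pointwise_smul_iff_inv_smul_mem, MulAut.smul_def,
    MulAut.inv_apply, MulAut.conj_symm_apply]

section data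

variable {E : Type*} [Group E] [Finite E]

theorem Rank1Data.exists_ne (hE : Rank1Data p E) (U : Sylow p E) : ∃ V : Sylow p E, V ≠ U := by
  by_contra h
  simp only [ne_eq, not_exists, not_not] at h
  haveI : Subsingleton (Sylow p E) := ⟨fun a b => (h a).trans (h b).symm⟩
  have h1 := hE.count U
  have h2 : Nat.card (Sylow p E) = 1 := Nat.card_of_subsingleton U
  have h3 : 0 < Nat.card U := Nat.card_pos
  omega

theorem mem_of_smul_eq {U V : Sylow p E} {u : E} (hu : u ∈ U) (h : u • V = V) : u ∈ V := by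
  have h1 : u ∈ (U : Subgroup E) ⊓ Subgroup.normalizer ((V : Subgroup E) : Set E) :=
    ⟨hu, Sylow.smul_eq_iff_mem_normalizer.1 h⟩
  rw [Sylow.coe_coe] at h1
  rw [U.2.inf_normalizer_sylow V] at h1
  exact h1.2

theorem Rank1Data.free (hE : Rank1Data p E) {U V : Sylow p E} (hne : V ≠ U) {u : E} (hu : u ∈ U)
    (h : u • V = V) : u = 1 :=
  hE.ti U V hne.symm u hu (mem_of_smul_eq hu h)

theorem smul_self_of_mem {U : Sylow p E} {u : E} (hu : u ∈ U) : u • U = U :=
  Sylow.smul_eq_iff_mem_normalizer.2 (Subgroup.le_normalizer hu)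

theorem Rank1Data.exists_smul (hE : Rank1Data p E) {U V V' : Sylow p E} (hV : V ≠ U)
    (hV' : V' ≠ U) : ∃ u ∈ U, u • V = V' := by
  classical
  let f : U → {W : Sylow p E // W ≠ U} := fun u => ⟨(u : E) • V, fun h => hV (by
    have := congrArg ((u : E)⁻¹ • ·) h
    simp only [inv_smul_smul] at this
    rw [this, smul_self_of_mem (inv_mem u.2)])⟩
  have hf : Function.Injective f := fun a b h => by
    have h1 : ((b : E)⁻¹ * a) • V = V := by
      rw [mul_smul, show (a : E) • V = (b : E) • V from congrArg Subtype.val h, inv_smul_smul]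
    have := hE.free hV (mul_mem (inv_mem b.2) a.2) h1
    exact Subtype.ext (inv_mul_eq_one.1 this).symm
  have hcard : Nat.card U = Nat.card {W : Sylow p E // W ≠ U} := by
    haveI := Fintype.ofFinite (Sylow p E)
    have := hE.count U
    rw [Nat.card_eq_fintype_card (α := {W : Sylow p E // W ≠ U}), Fintype.card_subtype_compl,
      Fintype.card_subtype_eq, ← Nat.card_eq_fintype_card]
    omega
  obtain ⟨u, hu⟩ := ((Nat.bijective_iff_injective_and_card f).2 ⟨hf, hcard⟩).2 ⟨V', hV'⟩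
  exact ⟨u, u.2, congrArg Subtype.val hu⟩

/-- The torus data at any Sylow subgroup. -/
theorem Rank1Data.torus_at (hE : Rank1Data p E) (W : Sylow p E) :
    ∃ (V : Sylow p E) (h : E), V ≠ W ∧ h • W = W ∧ h • V = V ∧
      (∀ u ∈ W, h * u * h⁻¹ = u → u = 1) ∧
      ∃ k : ℕ, ¬ k ≡ 1 [MOD p] ∧ ∀ c ∈ W, (∀ u ∈ W, c * u = u * c) → h * c * h⁻¹ = c ^ k := by
  obtain ⟨U, V, h, hUV, hU, hV, hfix, k, hk, hpow⟩ := hE.torus
  obtain ⟨e, rfl⟩ := MulAction.exists_smul_eq E U W
  refine ⟨e • V, e * h * e⁻¹, fun he => hUV (MulAction.injective e he).symm, ?_, ?_, ?_, k, hk, ?_⟩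
  · rw [mul_smul, inv_smul_smul, mul_smul, hU]
  · rw [mul_smul, inv_smul_smul, mul_smul, hV]
  · intro u hu hfu
    rw [mem_smul_sylow] at hu
    have h1 := hfix _ hu (by
      calc h * (e⁻¹ * u * e) * h⁻¹ = e⁻¹ * (e * h * e⁻¹ * u * (e * h * e⁻¹)⁻¹) * e := by group
        _ = e⁻¹ * u * e := by rw [hfu])
    calc u = e * (e⁻¹ * u * e) * e⁻¹ := by group
      _ = 1 := by rw [h1]; group
  · intro c hc hcomm
    rw [mem_smul_sylow] at hc
    have h1 := hpow _ hc fun u hu => by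
      have hu' : e * u * e⁻¹ ∈ e • U := by
        rw [mem_smul_sylow, show e⁻¹ * (e * u * e⁻¹) * e = u by group]
        exact hu
      calc e⁻¹ * c * e * u = e⁻¹ * (c * (e * u * e⁻¹)) * e := by group
        _ = e⁻¹ * (e * u * e⁻¹ * c) * e := by rw [hcomm _ hu']
        _ = u * (e⁻¹ * c * e) := by group
    calc e * h * e⁻¹ * c * (e * h * e⁻¹)⁻¹ = e * (h * (e⁻¹ * c * e) * h⁻¹) * e⁻¹ := by group
      _ = e * (e⁻¹ * c * e) ^ k * e⁻¹ := by rw [h1]
      _ = c ^ k := by rw [← conj_pow, show e * (e⁻¹ * c * e) * e⁻¹ = c by group]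

theorem Rank1Data.eq_one_of_central (hE : Rank1Data p E) {x : E} {n : ℕ} (hx : x ^ p ^ n = 1)
    (hc : ∀ y, x * y = y * x) : x = 1 := by
  have hall : ∀ U : Sylow p E, x ∈ U := fun U => by
    obtain ⟨Q, hQ⟩ := (show IsPGroup p (Subgroup.zpowers x) from
      IsPGroup.of_card_dvd_pow (n := n) (by rw [Nat.card_zpowers]; exact orderOf_dvd_of_pow_eq_one hx)
      ).exists_le_sylow
    exact mem_of_smul_eq (hQ (Subgroup.mem_zpowers x)) (Sylow.ext (by
      ext y
      show y ∈ x • U ↔ y ∈ U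
      rw [mem_smul_sylow, mul_assoc, ← hc y, inv_mul_cancel_left]))
  obtain ⟨V, hV⟩ := hE.exists_ne (default : Sylow p E)
  exact hE.ti V _ hV x (hall V) (hall _)

/-- The data descends along a surjection with central kernel. -/
theorem Rank1Data.map {E' : Type*} [Group E'] (hE : Rank1Data p E) (π : E →* E')
    (hπ : Function.Surjective π) (hker : π.ker ≤ Subgroup.center E) : Rank1Data p E' := by
  haveI : Finite E' := Finite.of_surjective π hπ
  have key : ∀ {U V : Sylow p E}, ∀ a ∈ U, ∀ b ∈ V, π a = π b → a = b := by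
    intro U V a ha b hb hab
    obtain ⟨m, hm⟩ := U.2 ⟨a, ha⟩
    obtain ⟨n, hn⟩ := V.2 ⟨b, hb⟩
    rw [Subtype.ext_iff, Subgroup.coe_pow, Subgroup.coe_one] at hm hn
    have hd : b⁻¹ * a ∈ Subgroup.center E :=
      hker (by rw [MonoidHom.mem_ker, map_mul, map_inv, hab, inv_mul_cancel])
    have hc : Commute b (b⁻¹ * a) := Subgroup.mem_center_iff.1 hd b
    have hab' : Commute a b := by
      have h1 : b⁻¹ * a * b = a := by rw [← hc.eq, mul_inv_cancel_left]
      calc a * b = b * (b⁻¹ * a * b) := by group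
        _ = b * a := by rw [h1]
    refine (inv_mul_eq_one.1 (hE.eq_one_of_central (n := m + n) ?_
      fun y => (Subgroup.mem_center_iff.1 hd y).symm)).symm
    rw [hab'.symm.inv_left.mul_pow, inv_pow, pow_add, pow_mul' b, hn, one_pow, pow_mul, hm,
      one_pow, inv_one, one_mul]
  have hmem : ∀ {U : Sylow p E} {y : E'}, y ∈ U.mapSurjective hπ ↔ ∃ x ∈ U, π x = y := by
    intro U y
    exact Iff.rfl
  have hinj : Function.Injective fun U : Sylow p E => U.mapSurjective hπ := by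
    intro U V h
    apply Sylow.ext
    refine Subgroup.eq_of_le_of_card_ge (fun a ha => ?_) (by rw [U.card_eq_multiplicity, V.card_eq_multiplicity])
    obtain ⟨b, hb, hab⟩ := hmem.1 (SetLike.ext_iff.1 h (π a) |>.1 (hmem.2 ⟨a, ha, rfl⟩))
    rw [key a ha b hb hab.symm]
    exact hb
  have hsurj := Sylow.mapSurjective_surjective hπ p
  have hcU : ∀ U : Sylow p E, Nat.card (U.mapSurjective hπ) = Nat.card U := fun U => by
    refine (Nat.card_eq_of_bijective (fun a : U => (⟨π a, hmem.2 ⟨a, a.2, rfl⟩⟩ :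
      U.mapSurjective hπ)) ⟨fun a b h => Subtype.ext (key a a.2 b b.2 (congrArg Subtype.val h)),
      fun y => ?_⟩).symm
    obtain ⟨x, hx, hxy⟩ := hmem.1 y.2
    exact ⟨⟨x, hx⟩, Subtype.ext hxy⟩
  refine ⟨?_, ?_, ?_, ?_⟩
  · rw [eq_top_iff, ← Subgroup.map_top_of_surjective π hπ, ← hE.gen, MonoidHom.map_closure]
    refine Subgroup.closure_mono ?_
    rintro _ ⟨x, ⟨n, hn⟩, rfl⟩
    exact ⟨n, by rw [← map_pow, hn, map_one]⟩
  · intro U'
    obtain ⟨U, rfl⟩ := hsurj U'
    rw [hcU, ← hE.count U]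
    exact (Nat.card_eq_of_bijective _ ⟨hinj, hsurj⟩).symm
  · intro U' V' hne y hyU hyV
    obtain ⟨U, rfl⟩ := hsurj U'
    obtain ⟨V, rfl⟩ := hsurj V'
    obtain ⟨a, ha, rfl⟩ := hmem.1 hyU
    obtain ⟨b, hb, hab⟩ := hmem.1 hyV
    have := key a ha b hb hab.symm
    subst this
    rw [hE.ti U V (fun h => hne (by rw [h])) a ha hb, map_one]
  · obtain ⟨U, V, h, hUV, hU, hV, hfix, k, hk, hpow⟩ := hE.torus
    have hsm : ∀ (g : E) (W : Sylow p E), g • W = W →
        π g • W.mapSurjective hπ = W.mapSurjective hπ := fun g W hg => by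
      refine Sylow.ext (le_antisymm ?_ ?_)
      · intro y hy
        have hy' : (π g)⁻¹ * y * π g ∈ W.mapSurjective hπ := mem_smul_sylow.1 hy
        obtain ⟨x, hx, hxy⟩ := hmem.1 hy'
        refine hmem.2 ⟨g * x * g⁻¹, ?_, by rw [map_mul, map_mul, hxy, map_inv]; group⟩
        rw [← hg, mem_smul_sylow]
        simpa [mul_assoc] using hx
      · intro y hy
        obtain ⟨x, hx, rfl⟩ := hmem.1 hy
        refine mem_smul_sylow.2 (hmem.2 ⟨g⁻¹ * x * g, ?_, by simp⟩)
        rw [← mem_smul_sylow, hg]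
        exact hx
    have hconj : ∀ u ∈ U, h * u * h⁻¹ ∈ U := fun u hu => by
      rw [← hU, mem_smul_sylow]
      simpa [mul_assoc] using hu
    refine ⟨_, _, π h, fun e => hUV (hinj e), hsm h U hU, hsm h V hV, ?_, k, hk, ?_⟩
    · intro y hy hfy
      obtain ⟨u, hu, rfl⟩ := hmem.1 hy
      rw [hfix u hu (key _ (hconj u hu) u hu (by simpa using hfy)), map_one]
    · intro y hy hcy
      obtain ⟨c, hc, rfl⟩ := hmem.1 hy
      simpa using congrArg π (hpow c hc fun u hu => key _ (mul_mem hc hu) _ (mul_mem hu hc)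
        (by simpa using hcy (π u) (hmem.2 ⟨u, hu, rfl⟩)))

end data

section main

variable {Q : Type*} [Group Q] [Finite Q]

/-- Only the identity among the `p`-elements of `Q` fixes every Sylow subgroup of `E`. -/
theorem eq_one_of_fix_all (hcore : ∀ N : Subgroup Q, N.Normal → IsPGroup p N → N = ⊥)
    {E : Subgroup Q} [E.Normal] (hQE : IsPGroup p (Q ⧸ E)) (hE : Rank1Data p E) {x : Q} {n : ℕ}
    (hx : x ^ p ^ n = 1) (hfix : ∀ V : Sylow p E, (MulAut.conjNormal (H := E) x) • V = V) : x = 1 := by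
  have hcomm : ∀ (W : Sylow p E), ∀ u ∈ W, MulAut.conjNormal (H := E) x u = u := by
    intro W u hu
    have h1 : MulAut.conjNormal (H := E) x u ∈ W := by
      have := congrArg (fun V : Sylow p E => MulAut.conjNormal (H := E) x u ∈ V) (hfix W)
      exact this.mp (Subgroup.smul_mem_pointwise_smul u (MulAut.conjNormal (H := E) x) _ hu)
    obtain ⟨V, hV⟩ := hE.exists_ne W
    refine (inv_mul_eq_one.1 (hE.free hV (mul_mem (inv_mem hu) h1) ?_)).symm
    have hinv : ∀ V : Sylow p E, MulAut.conjNormal (H := E) x⁻¹ • V = V := fun V => by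
      rw [map_inv, inv_smul_eq_iff]
      exact (hfix V).symm
    rw [mul_smul, inv_smul_eq_iff]
    have h2 : MulAut.conjNormal (H := E) x u • V =
        MulAut.conjNormal (H := E) x • (u • (MulAut.conjNormal (H := E) x⁻¹ • V)) := by
      rw [Sylow.smul_def, Sylow.smul_def, ← mul_smul, ← mul_smul]
      congr 1
      ext y
      simp [MulAut.conjNormal_apply, mul_assoc]
    rw [h2, hinv, hfix]
  have hall : ∀ e : E, MulAut.conjNormal (H := E) x e = e := by
    intro e
    have he : e ∈ Subgroup.closure {y : E | ∃ m : ℕ, y ^ p ^ m = 1} := hE.gen ▸ Subgroup.mem_top e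
    refine Subgroup.closure_le ((MulAut.conjNormal (H := E) x : MulAut E).toMonoidHom.eqLocus
      (MonoidHom.id E)) |>.2 (fun y hy => ?_) he
    obtain ⟨m, hm⟩ := hy
    obtain ⟨W, hW⟩ := (show IsPGroup p (Subgroup.zpowers y) from
      IsPGroup.of_card_dvd_pow (n := m) (by rw [Nat.card_zpowers]; exact orderOf_dvd_of_pow_eq_one hm)
      ).exists_le_sylow
    exact hcomm W y (hW (Subgroup.mem_zpowers y))
  set X := Subgroup.centralizer (E : Set Q) with hX
  have hxX : x ∈ X := Subgroup.mem_centralizer_iff.2 fun e he => by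
    have := congrArg Subtype.val (hall ⟨e, he⟩)
    rw [MulAut.conjNormal_apply] at this
    exact (mul_inv_eq_iff_eq_mul.1 this).symm
  haveI : X.Normal := Subgroup.normal_centralizer
  let T : Sylow p X := default
  have hsup : (T : Subgroup X) ⊔ E.subgroupOf X = ⊤ := by
    rw [← Subgroup.index_eq_one]
    have h2 : (E.subgroupOf X).index ∣ E.index := Subgroup.relIndex_dvd_index_of_normal E X
    obtain ⟨j, hj⟩ := hQE.exists_card_eq
    have hd1 := Subgroup.index_dvd_of_le (le_sup_left : (T : Subgroup X) ≤ (T : Subgroup X) ⊔ E.subgroupOf X)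
    have hd2 := (Subgroup.index_dvd_of_le
      (le_sup_right : E.subgroupOf X ≤ (T : Subgroup X) ⊔ E.subgroupOf X)).trans h2
    rw [Subgroup.index_eq_card E, hj] at hd2
    obtain ⟨i, -, hi⟩ := (Nat.dvd_prime_pow (Fact.out : p.Prime)).1 hd2
    rw [hi]
    rcases i with _ | i
    · rfl
    · exact absurd ((hi ▸ dvd_pow_self p i.succ_ne_zero).trans hd1) T.not_dvd_index
  haveI hTn : (T : Subgroup X).Normal := by
    rw [← Subgroup.normalizer_eq_top_iff, eq_top_iff, ← hsup, sup_le_iff]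
    refine ⟨Subgroup.le_normalizer, fun y hy => Subgroup.mem_normalizer_iff.2 fun t => ?_⟩
    have : (y : Q) * (t : Q) = (t : Q) * (y : Q) :=
      Subgroup.mem_centralizer_iff.1 t.2 y (Subgroup.mem_subgroupOf.1 hy)
    have : y * t * y⁻¹ = t := Subtype.ext (by simp [this])
    rw [this]
  haveI hTc : (T : Subgroup X).Characteristic := T.characteristic_of_normal hTn
  have hT : ((T : Subgroup X).map X.subtype) = ⊥ :=
    hcore _ ConjAct.normal_of_characteristic_of_normal (T.2.map _)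
  have hxT : (⟨x, hxX⟩ : X) ∈ (T : Subgroup X) := by
    have hsm : (⟨x, hxX⟩ : X) • T = T := Sylow.smul_eq_of_normal
    obtain ⟨W, hW⟩ := (show IsPGroup p (Subgroup.zpowers (⟨x, hxX⟩ : X)) from
      IsPGroup.of_card_dvd_pow (n := n) (by
        rw [Nat.card_zpowers]; exact orderOf_dvd_of_pow_eq_one (Subtype.ext (by simpa using hx)))
      ).exists_le_sylow
    exact mem_of_smul_eq (hW (Subgroup.mem_zpowers _)) hsm
  have : x ∈ (T : Subgroup X).map X.subtype := ⟨⟨x, hxX⟩, hxT, rfl⟩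
  rw [hT] at this
  exact this

/-- No non-trivial element of `S` centralises the normaliser of `S`. -/
theorem eq_one_of_centralises_normalizer
    (hcore : ∀ N : Subgroup Q, N.Normal → IsPGroup p N → N = ⊥) (S : Sylow p Q)
    {E : Subgroup Q} [E.Normal] (hQE : IsPGroup p (Q ⧸ E)) (hE : Rank1Data p E)
    {z : Q} (hzS : z ∈ S) (hz : ∀ n ∈ Subgroup.normalizer (S : Set Q), n * z = z * n) : z = 1 := by
  obtain ⟨W, hW⟩ : ∃ W : Sylow p E, (W : Subgroup E) = (S : Subgroup Q).subgroupOf E := by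
    obtain ⟨W₁, hW₁⟩ :=
      (S.2.comap_of_injective E.subtype E.subtype_injective).exists_le_sylow
    refine ⟨W₁, (Subgroup.eq_of_le_of_card_ge hW₁ ?_).symm⟩
    obtain ⟨T, hT⟩ := (W₁.2.map E.subtype).exists_le_sylow
    obtain ⟨g, hg⟩ := MulAction.exists_smul_eq Q T S
    refine Nat.card_le_card_of_injective
      (fun w : W₁ => (⟨MulAut.conjNormal (H := E) g w.1, ?_⟩ : (S : Subgroup Q).subgroupOf E))
      fun a b h => Subtype.ext ((MulAut.conjNormal (H := E) g).injective (congrArg Subtype.val h))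
    rw [Subgroup.mem_subgroupOf, MulAut.conjNormal_apply, ← hg]
    show g * ((w.1 : E) : Q) * g⁻¹ ∈ g • T
    rw [mem_smul_sylow, show g⁻¹ * (g * ((w.1 : E) : Q) * g⁻¹) * g = ((w.1 : E) : Q) by group]
    exact hT ⟨w.1, w.2, rfl⟩
  have hWS : ∀ u : E, u ∈ W ↔ (u : Q) ∈ S := fun u => by
    show u ∈ (W : Subgroup E) ↔ _
    rw [hW]
    exact Iff.rfl
  obtain ⟨V, h, hVW, hhW, hhV, hfree, k, hk, hpow⟩ := hE.torus_at W
  let ρ : Q →* Equiv.Perm (Sylow p E) :=
    (MulAction.toPermHom (MulAut E) (Sylow p E)).comp (MulAut.conjNormal (H := E))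
  have hρE : ∀ (e : E) (V' : Sylow p E), ρ e V' = e • V' := fun e V' => by
    show (MulAut.conjNormal (H := E) (e : Q)) • V' = e • V'
    rw [Sylow.smul_def, show MulAut.conjNormal (H := E) (e : Q) = MulAut.conj e from
      MulEquiv.ext fun y => Subtype.ext (MulAut.conjNormal_apply _ _)]
  -- a permutation fixing `W` and `V` and commuting with `W` is trivial
  have hrigid : ∀ y : Q, (∀ u ∈ W, y * ((u : E) : Q) = (u : Q) * y) → ρ y W = W → ρ y V = V →
      ρ y = 1 := by
    intro y hy hyW hyV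
    refine Equiv.ext fun V' => ?_
    by_cases hV' : V' = W
    · rw [hV', hyW]; rfl
    obtain ⟨u, hu, rfl⟩ := hE.exists_smul hVW hV'
    rw [← hρE, ← Equiv.Perm.mul_apply, ← map_mul, hy u hu, map_mul, Equiv.Perm.mul_apply, hyV]
    rfl
  have hker : ∀ (y : Q) (n : ℕ), y ^ p ^ n = 1 → ρ y = 1 → y = 1 := fun y n hy hρ =>
    eq_one_of_fix_all hcore hQE hE hy fun V' => by
      show ρ y V' = V'
      rw [hρ]; rfl
  have hzW : ∀ u ∈ W, z * ((u : E) : Q) = (u : Q) * z := fun u hu =>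
    (hz u (Subgroup.le_normalizer ((hWS u).1 hu))).symm
  have hρzW : ρ z W = W := by
    show (MulAut.conjNormal (H := E) z) • W = W
    refine Sylow.ext (SetLike.ext fun u => ?_)
    show u ∈ (MulAut.conjNormal (H := E) z) • (W : Subgroup E) ↔ u ∈ (W : Subgroup E)
    rw [Subgroup.mem_pointwise_smul_iff_inv_smul_mem, MulAut.smul_def, ← map_inv,
      hW, Subgroup.mem_subgroupOf, Subgroup.mem_subgroupOf, MulAut.conjNormal_apply, inv_inv]
    constructor
    · intro hu
      have h2 := mul_mem (mul_mem (show z ∈ (S : Subgroup Q) from hzS) hu) (inv_mem hzS)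
      simpa [mul_assoc] using h2
    · intro hu
      exact mul_mem (mul_mem (inv_mem hzS) hu) hzS
  have hhS : ∀ u ∈ W, h⁻¹ * u * h ∈ W := fun u hu => by
    rw [← mem_smul_sylow, hhW]
    exact hu
  set c : E := h * ⟨z * (h : Q)⁻¹ * z⁻¹, Subgroup.Normal.conj_mem inferInstance _ (inv_mem h.2) z⟩
    with hc
  have hcQ : (c : Q) = (h : Q) * z * (h : Q)⁻¹ * z⁻¹ := by simp [hc, mul_assoc]
  have hcW : ∀ u ∈ W, (c : Q) * ((u : E) : Q) = (u : Q) * (c : Q) := by
    intro u hu
    have h1 : ((h * u * h⁻¹ : E) : Q) * z = z * ((h * u * h⁻¹ : E) : Q) := by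
      refine (hzW _ ?_).symm
      rw [← hhW, mem_smul_sylow]
      simpa [mul_assoc] using hu
    have h2 := hzW (h⁻¹ * u * h) (hhS u hu)
    have h3 := hzW u hu
    simp only [Subgroup.coe_mul, Subgroup.coe_inv] at h1 h2
    rw [hcQ]
    have h3' : z⁻¹ * (u : Q) = (u : Q) * z⁻¹ := (Commute.inv_left (h3 : Commute z (u : Q))).eq
    calc (h : Q) * z * (h : Q)⁻¹ * z⁻¹ * u = (h : Q) * z * (h : Q)⁻¹ * (z⁻¹ * u) := by group
      _ = (h : Q) * (z * ((h : Q)⁻¹ * u * h)) * (h : Q)⁻¹ * z⁻¹ := by rw [h3']; group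
      _ = (u : Q) * ((h : Q) * z * (h : Q)⁻¹ * z⁻¹) := by rw [h2]; group
  have hρhW : ρ (h : Q) W = W := (hρE h W).trans hhW
  have hρcW : ρ (c : Q) W = W := by
    rw [hcQ]
    simp only [map_mul, map_inv, Equiv.Perm.mul_apply]
    rw [show (ρ z)⁻¹ W = W from Equiv.Perm.inv_eq_iff_eq.2 hρzW.symm,
      show (ρ (h : Q))⁻¹ W = W from Equiv.Perm.inv_eq_iff_eq.2 hρhW.symm, hρzW, hρhW]
  -- `c` acts on the Sylow subgroups as an element of the centre of `W`
  have hcVne : c • V ≠ W := fun e => hVW (by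
    have h1 : c • W = W := (hρE c W).symm.trans hρcW
    exact MulAction.injective c (e.trans h1.symm))
  obtain ⟨u₀, hu₀, hu₀V⟩ := hE.exists_smul hVW hcVne
  have hcn : ∀ i : ℕ, c ^ i • V = u₀ ^ i • V := by
    intro i
    induction i with
    | zero => simp
    | succ i ih =>
      rw [pow_succ' c, mul_smul, ih]
      have h1 : c * u₀ ^ i = u₀ ^ i * c := Subtype.ext (by
        simpa using hcW (u₀ ^ i) (pow_mem hu₀ i))
      rw [← mul_smul, h1, mul_smul, ← hu₀V, ← mul_smul, ← pow_succ]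
  obtain ⟨m, hm⟩ := W.2 ⟨u₀, hu₀⟩
  rw [Subtype.ext_iff, Subgroup.coe_pow, Subgroup.coe_one] at hm
  have hρcm : ρ (c : Q) ^ p ^ m = 1 := by
    rw [← map_pow, ← Subgroup.coe_pow]
    refine hrigid _ (fun u hu => ?_) ?_ ?_
    · rw [Subgroup.coe_pow]
      exact (Commute.pow_left (hcW u hu) _).eq
    · rw [Subgroup.coe_pow, map_pow]
      exact Function.IsFixedPt.perm_pow hρcW _
    · rw [hρE, hcn, hm, one_smul]
  obtain ⟨c', n', hc'p, hc'ρ, hc'W⟩ : ∃ (c' : E) (n' : ℕ), c' ^ p ^ n' = 1 ∧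
      ρ (c' : Q) = ρ (c : Q) ∧ ∀ u ∈ W, ρ (c' : Q) * ρ ((u : E) : Q) = ρ (u : Q) * ρ (c' : Q) := by
    obtain ⟨a, b, hb, hab⟩ := Nat.exists_eq_pow_mul_and_not_dvd (orderOf_pos c).ne' p
      (Fact.out : p.Prime).ne_one
    have hco : (b : ℕ).Coprime (p ^ m) :=
      (((Fact.out : p.Prime).coprime_iff_not_dvd.2 hb).pow_left m).symm
    obtain ⟨j, hj0, hj1⟩ := Nat.chineseRemainder hco 0 1
    refine ⟨c ^ j, a, ?_, ?_, fun u hu => ?_⟩
    · rw [← pow_mul]
      refine orderOf_dvd_iff_pow_eq_one.1 ?_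
      rw [hab, mul_comm j]
      exact mul_dvd_mul_left _ (Nat.modEq_zero_iff_dvd.1 hj0)
    · rw [Subgroup.coe_pow, map_pow]
      calc ρ (c : Q) ^ j = ρ (c : Q) ^ 1 :=
            pow_eq_pow_iff_modEq.2 (hj1.of_dvd (orderOf_dvd_of_pow_eq_one hρcm))
        _ = ρ (c : Q) := pow_one _
    · rw [← map_mul, ← map_mul, Subgroup.coe_pow,
        (Commute.pow_left (hcW u hu) j).eq]
  have hc'S : c' ∈ W := by
    obtain ⟨W', hW'⟩ := (show IsPGroup p (Subgroup.zpowers c') from
      IsPGroup.of_card_dvd_pow (n := n') (by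
        rw [Nat.card_zpowers]; exact orderOf_dvd_of_pow_eq_one hc'p)).exists_le_sylow
    exact mem_of_smul_eq (hW' (Subgroup.mem_zpowers c')) (by rw [← hρE, hc'ρ, hρcW])
  have hc'comm : ∀ u ∈ W, c' * u = u * c' := by
    intro u hu
    refine mul_inv_eq_one.1 ?_
    have hmem : c' * u * (u * c')⁻¹ ∈ W :=
      mul_mem (mul_mem hc'S hu) (inv_mem (mul_mem hu hc'S))
    refine hE.free hVW hmem ?_
    rw [← hρE]
    simp only [Subgroup.coe_mul, Subgroup.coe_inv, map_mul, map_inv]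
    rw [hc'W u hu, mul_inv_cancel]
    rfl
  have hc'k : (h : Q) * (c' : Q) * (h : Q)⁻¹ = (c' : Q) ^ k := by
    have := congrArg Subtype.val (hpow c' hc'S hc'comm)
    simpa using this
  have hzc' : Commute z (c' : Q) := hzW c' hc'S
  have hkp : IsCoprime ((k : ℤ) - 1) ((p : ℤ) ^ n') := by
    refine IsCoprime.pow_right ((Int.isCoprime_iff_nat_coprime).2 ?_)
    rw [Int.natAbs_natCast, Nat.coprime_comm, (Fact.out : p.Prime).coprime_iff_not_dvd]
    intro hd
    apply hk
    rw [← Int.natCast_dvd] at hd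
    exact (Nat.modEq_iff_dvd.2 (by push_cast; exact hd)).symm
  obtain ⟨a, b, hab⟩ := hkp
  set z' : Q := z * (c' : Q) ^ (-a) with hz'
  have hc'pQ : (c' : Q) ^ ((p : ℤ) ^ n') = 1 := by
    have := congrArg Subtype.val hc'p
    rw [← zpow_natCast] at this
    simpa using this
  have hρz'h : ρ (h : Q) * ρ z' = ρ z' * ρ (h : Q) := by
    have h2 : ρ (h : Q) * ρ z * (ρ (h : Q))⁻¹ = ρ ((c' : Q) * z) := by
      rw [map_mul, hc'ρ, hcQ]
      simp only [map_mul, map_inv]
      group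
    have h3 : (h : Q) * (c' : Q) ^ (-a) * (h : Q)⁻¹ = (c' : Q) ^ ((k : ℤ) * -a) := by
      rw [← conj_zpow, hc'k, ← zpow_natCast, ← zpow_mul]
    rw [← mul_inv_eq_iff_eq_mul]
    calc ρ (h : Q) * ρ z' * (ρ (h : Q))⁻¹
        = (ρ (h : Q) * ρ z * (ρ (h : Q))⁻¹) * ρ ((h : Q) * (c' : Q) ^ (-a) * (h : Q)⁻¹) := by
          rw [hz']; simp only [map_mul, map_inv]; group
      _ = ρ (z * (c' : Q) ^ (1 + (k : ℤ) * -a)) := by
          rw [h2, h3, ← map_mul, ← hzc'.eq, mul_assoc, zpow_one_add]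
      _ = ρ z' := by
          rw [hz', show (1 : ℤ) + (k : ℤ) * -a = -a + (p : ℤ) ^ n' * b by linear_combination -hab,
            zpow_add, zpow_mul, hc'pQ, one_zpow, mul_one]
  have hc'aW : c' ^ (-a) ∈ W := zpow_mem hc'S _
  have hz'W : ∀ u ∈ W, z' * ((u : E) : Q) = (u : Q) * z' := by
    intro u hu
    have h1 : Commute ((c' : Q) ^ (-a)) (u : Q) := by
      refine Commute.zpow_left ?_ _
      have := congrArg Subtype.val (hc'comm u hu)
      simpa [Commute, SemiconjBy] using this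
    exact (Commute.mul_left (hzW u hu) h1).eq
  have hρz'W : ρ z' W = W := by
    rw [hz', map_mul, Equiv.Perm.mul_apply, ← Subgroup.coe_zpow, hρE, smul_self_of_mem hc'aW, hρzW]
  have hz'V : ρ z' V = V := by
    have hne : ρ z' V ≠ W := fun e => hVW ((ρ z').injective (e.trans hρz'W.symm))
    obtain ⟨v, hv, hvV⟩ := hE.exists_smul hVW hne
    have h1 : h • (v • V) = v • V := by
      rw [hvV, ← hρE, ← Equiv.Perm.mul_apply, hρz'h, Equiv.Perm.mul_apply, hρE, hhV]
    have h4 : ((v⁻¹ * (h * v * h⁻¹)) : E) • V = V := by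
      rw [mul_smul, mul_smul, mul_smul, show h⁻¹ • V = V from inv_smul_eq_iff.2 hhV.symm, h1,
        inv_smul_smul]
    have h5 : h * v * h⁻¹ ∈ W := by
      rw [← hhW, mem_smul_sylow]; simpa [mul_assoc] using hv
    have h6 := inv_mul_eq_one.1 (hE.free hVW (mul_mem (inv_mem hv) h5) h4)
    rw [← hvV, hfree v hv h6.symm, one_smul]
  have hz'S : z' ∈ S := mul_mem hzS (by
    rw [← Subgroup.coe_zpow]; exact (hWS _).1 hc'aW)
  obtain ⟨i, hi⟩ := S.2 ⟨z', hz'S⟩
  rw [Subtype.ext_iff, Subgroup.coe_pow, Subgroup.coe_one] at hi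
  have hz'1 := hker z' i hi (hrigid z' hz'W hρz'W hz'V)
  have hzeq : z = (c' : Q) ^ a := by
    rw [hz', mul_eq_one_iff_eq_inv, zpow_neg, inv_inv] at hz'1
    exact hz'1
  have hhz : (h : Q) * z * (h : Q)⁻¹ = z ^ k := by
    rw [hzeq, ← conj_zpow, hc'k, ← zpow_natCast, ← zpow_mul, ← zpow_natCast, ← zpow_mul, mul_comm]
  have hzC : z ∈ Subgroup.centralizer (S : Set Q) := Subgroup.mem_centralizer_iff.2 fun s hs =>
    hz s (Subgroup.le_normalizer hs)
  obtain ⟨g, hg, hgz⟩ := S.conj_eq_normalizer_conj_of_mem_centralizer z (h : Q)⁻¹ hzC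
    (by rw [inv_inv, hhz]; exact pow_mem hzC k)
  rw [inv_inv, hhz, mul_assoc, ← hz g hg, inv_mul_cancel_left] at hgz
  obtain ⟨j, hj⟩ := S.2 ⟨z, hzS⟩
  rw [Subtype.ext_iff, Subgroup.coe_pow, Subgroup.coe_one] at hj
  obtain ⟨i, -, hi⟩ := (Nat.dvd_prime_pow (Fact.out : p.Prime)).1 (orderOf_dvd_of_pow_eq_one hj)
  rcases i with _ | i
  · exact orderOf_eq_one_iff.1 (by rw [hi, pow_zero])
  · exfalso
    apply hk
    have hmod : k ≡ 1 [MOD orderOf z] := pow_eq_pow_iff_modEq.1 (hgz.trans (pow_one z).symm)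
    exact hmod.of_dvd (hi ▸ dvd_pow_self p i.succ_ne_zero)

end main

end Cfsg.Agent.Lib.RankOneCentre
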