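import Cfsg.Agent.Lib.RankOneCentre.Abstract

/-!
# Rank one data from one Sylow subgroup

Owner: helper4.
-/

set_option autoImplicit false
set_option linter.unusedSectionVars false
set_option linter.style.haveILetI false

namespace Cfsg.Agent.Lib.RankOneCentre

open scoped Pointwise

variable {p : ℕ} [Fact p.Prime] {E : Type*} [Group E] [Finite E]

theorem Rank1Data.of_sylow (U : Sylow p E) (N : Subgroup E) (hN : ∀ g, g • U = U ↔ g ∈ N)
    (hindex : N.index = Nat.card U + 1)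
    (hti : ∀ g, ∀ x ∈ U, g * x * g⁻¹ ∈ U → x ≠ 1 → g ∈ N)
    (hgen : Subgroup.closure {x : E | ∃ n : ℕ, x ^ p ^ n = 1} = ⊤)
    (htorus : ∃ w h : E, w ∉ N ∧ h ∈ N ∧ w⁻¹ * h * w ∈ N ∧
      (∀ u ∈ U, h * u * h⁻¹ = u → u = 1) ∧
      ∃ k : ℕ, ¬ k ≡ 1 [MOD p] ∧ ∀ c ∈ U, (∀ u ∈ U, c * u = u * c) → h * c * h⁻¹ = c ^ k) :
    Rank1Data p E := by
  refine ⟨hgen, fun V => ?_, fun A B hAB x hxA hxB => ?_, ?_⟩
  · rw [V.card_eq_multiplicity, ← U.card_eq_multiplicity, ← hindex,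
      U.card_eq_index_normalizer]
    congr 1
    ext g
    rw [← hN g]
    exact Sylow.smul_eq_iff_mem_normalizer.symm
  · obtain ⟨g, rfl⟩ := MulAction.exists_smul_eq E U A
    obtain ⟨g', rfl⟩ := MulAction.exists_smul_eq E U B
    rw [mem_smul_sylow] at hxA hxB
    by_contra hx
    refine hAB ?_
    have h1 := hti (g'⁻¹ * g) _ hxA (by
      rw [show g'⁻¹ * g * (g⁻¹ * x * g) * (g'⁻¹ * g)⁻¹ = g'⁻¹ * x * g' by group]
      exact hxB) fun e => hx (by
        calc x = g * (g⁻¹ * x * g) * g⁻¹ := by group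
          _ = 1 := by rw [e]; group)
    calc g • U = g' • ((g'⁻¹ * g) • U) := by rw [mul_smul, smul_inv_smul]
      _ = g' • U := by rw [(hN _).2 h1]
  · obtain ⟨w, h, hw, hh, hhw, hfix, hk⟩ := htorus
    refine ⟨U, w • U, h, fun e => hw ((hN w).1 e.symm), (hN h).2 hh, ?_, hfix, hk⟩
    have h1 := congrArg (w • ·) ((hN _).2 hhw)
    simpa [mul_smul] using h1

end Cfsg.Agent.Lib.RankOneCentre
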