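import Cfsg.Agent.Lib.RankOneCentre.Build
import Cfsg.Agent.Lib.Linear.Unipotent
import Cfsg.Agent.Lib.SL2Tori.Borel

/-!
# `SL₂(q)` is of rank one at its characteristic

Owner: helper4.
-/

set_option autoImplicit false
set_option linter.unusedSectionVars false
set_option linter.style.haveILetI false

namespace Cfsg.Agent.Lib.RankOneCentre

open Cfsg.Agent.Lib.Linear Cfsg.Agent.Lib.SL2Tori.Borel Cfsg.Agent.Lib.PSLTwo.Sylow
open scoped Pointwise

variable {F : Type*} [Field F] [Fintype F] {p : ℕ} [Fact p.Prime] [CharP F p]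

theorem coe_uSL' (t : Multiplicative F) :
    (uSL t : Matrix.SpecialLinearGroup (Fin 2) F).1 = !![1, t.toAdd; 0, 1] := coe_uSL t

theorem rank1Data_SL2 (hp : 5 ≤ p) : Rank1Data p (Matrix.SpecialLinearGroup (Fin 2) F) := by
  have hsmall : ∀ n : ℕ, 0 < n → n < p → (n : F) ≠ 0 := fun n h0 h1 h => by
    rw [CharP.cast_eq_zero_iff F p] at h
    exact absurd (Nat.le_of_dvd h0 h) (by omega)
  have h2 : (2 : F) ≠ 0 := by simpa using hsmall 2 (by norm_num) (by omega)
  have h3 : (3 : F) ≠ 0 := by simpa using hsmall 3 (by norm_num) (by omega)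
  set U := sylowU_SL (F := F) p
  have hU : ∀ x, x ∈ U ↔ ∃ t, uSL t = x := fun x => Iff.rfl
  have hone : uSL (Multiplicative.ofAdd (1 : F)) ≠ 1 := fun h =>
    one_ne_zero (α := F) (congrArg Multiplicative.toAdd
      (uSL_injective (h.trans (map_one (uSL (F := F))).symm)))
  have hti : ∀ g : Matrix.SpecialLinearGroup (Fin 2) F, ∀ x ∈ U, g * x * g⁻¹ ∈ U → x ≠ 1 →
      g ∈ (borel : Subgroup (Matrix.SpecialLinearGroup (Fin 2) F)) := by
    intro g x hx hgx hx1
    obtain ⟨t, rfl⟩ := (hU x).1 hx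
    obtain ⟨s, hs⟩ := (hU _).1 hgx
    exact mem_borel.2 (upper_of_uSL_mul_eq (s := s) (t := t) (by rw [hs]; group)
      (Or.inr fun h => hx1 (by rw [h, map_one])))
  have hN : ∀ g : Matrix.SpecialLinearGroup (Fin 2) F, g • U = U ↔
      g ∈ (borel : Subgroup (Matrix.SpecialLinearGroup (Fin 2) F)) := by
    refine fun g => ⟨fun h => hti g _ ((hU _).2 ⟨_, rfl⟩) ?_ hone, fun h => ?_⟩
    · have h1 := (mem_smul_sylow (g := g) (U := U)
        (x := g * uSL (Multiplicative.ofAdd (1 : F)) * g⁻¹)).2 (by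
          simp only [mul_assoc, inv_mul_cancel_left, inv_mul_cancel, mul_one]
          exact (hU _).2 ⟨_, rfl⟩)
      rwa [h] at h1
    · refine Sylow.ext ?_
      rw [Sylow.coe_subgroup_smul]
      exact upper_conj_uSL (mem_borel.1 h)
  have hindex : (borel : Subgroup (Matrix.SpecialLinearGroup (Fin 2) F)).index =
      Nat.card U + 1 := by
    have hcU : Nat.card U = Fintype.card F := (card_range_uSL (F := F)).trans Nat.card_eq_fintype_card
    have h1 := Subgroup.index_mul_card (borel : Subgroup (Matrix.SpecialLinearGroup (Fin 2) F))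
    rw [card_borel, card_SL_two, mul_comm] at h1
    rw [hcU]
    have hpos : 0 < (Fintype.card F - 1) * Fintype.card F :=
      Nat.mul_pos (by have := Fintype.one_lt_card (α := F); omega) Fintype.card_pos
    refine Nat.eq_of_mul_eq_mul_left hpos (h1.trans ?_)
    ring
  let w : Matrix.SpecialLinearGroup (Fin 2) F := mk2 0 1 (-1) 0 (by ring)
  let h : Matrix.SpecialLinearGroup (Fin 2) F := mk2 2 0 0 2⁻¹ (by simp [h2])
  have hconj : ∀ t : Multiplicative F, h * uSL t * h⁻¹ = uSL (Multiplicative.ofAdd (4 * t.toAdd)) := by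
    intro t
    rw [mul_inv_eq_iff_eq_mul]
    apply slExt <;> simp [h, mul_apply', coe_uSL'] <;> field_simp
    all_goals ring
  refine Rank1Data.of_sylow U borel hN hindex hti ?_ ⟨w, h, ?_, ?_, ?_, ?_, 4, ?_, ?_⟩
  · rw [eq_top_iff, ← uSL_sup_conj_eq_top (k := w) (by simp [w]), sup_le_iff]
    constructor
    · intro x hx
      obtain ⟨m, hm⟩ := U.2 ⟨x, hx⟩
      exact Subgroup.subset_closure ⟨m, by simpa [Subtype.ext_iff] using hm⟩
    · intro x hx
      obtain ⟨m, hm⟩ := (w • U).2 ⟨x, hx⟩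
      exact Subgroup.subset_closure ⟨m, by simpa [Subtype.ext_iff] using hm⟩
  · simp [mem_borel, w]
  · simp [mem_borel, h]
  · simp [mem_borel, h, w, mul_apply', Matrix.adjugate_fin_two]
  · intro x hx hfx
    obtain ⟨t, rfl⟩ := (hU x).1 hx
    rw [hconj] at hfx
    have h4 := congrArg Multiplicative.toAdd (uSL_injective hfx)
    rw [toAdd_ofAdd] at h4
    have : (3 : F) * t.toAdd = 0 := by linear_combination h4
    rw [show t = 1 from (mul_eq_zero.1 this).resolve_left h3, map_one]
  · intro hk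
    have := (Nat.modEq_iff_dvd' (by norm_num : 1 ≤ 4)).1 hk.symm
    exact absurd (Nat.le_of_dvd (by norm_num) this) (by omega)
  · intro x hx _
    obtain ⟨t, rfl⟩ := (hU x).1 hx
    rw [hconj, ← map_pow]
    congr 1
    apply Multiplicative.toAdd.injective
    simp [toAdd_pow]

end Cfsg.Agent.Lib.RankOneCentre
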