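import Cfsg.Agent.Lib.RankOneCentre.Build
import Cfsg.Agent.Lib.MinIndexPSU3.Points

/-!
# `SU₃(q)` is of rank one at its characteristic

Owner: helper4.
-/

set_option autoImplicit false
set_option linter.unusedSectionVars false
set_option linter.style.haveILetI false

namespace Cfsg.Agent.Lib.RankOneCentre

open Matrix Cfsg.Agent.Lib.Unitary Cfsg.Agent.Lib.AutPSU Cfsg.Agent.Lib.MinIndexPSU
  Cfsg.Agent.Lib.MinIndexPSU3
open scoped Pointwise

variable {F : Type*} [Field F] [Fintype F] {p a : ℕ} [Fact p.Prime] [CharP F p]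

theorem rank1Data_SU3 (hp : 5 ≤ p) (ha : 1 ≤ a) (hF : Fintype.card F = (p ^ a) ^ 2) :
    Rank1Data p (SU 3 F (p ^ a)) := by
  set q := p ^ a with hq
  obtain ⟨Φ⟩ := exists_frame3 (q := q) hF
  have hpq : p ∣ q := dvd_pow_self p (by omega)
  have hq5 : 5 ≤ q := hp.trans (Nat.le_of_dvd (pow_pos (by omega) _) hpq)
  have hsmall : ∀ n : ℕ, 0 < n → n < p → (n : F) ≠ 0 := fun n h0 h1 h => by
    rw [CharP.cast_eq_zero_iff F p] at h
    exact absurd (Nat.le_of_dvd h0 h) (by omega)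
  have h2 : (2 : F) ≠ 0 := by simpa using hsmall 2 (by norm_num) (by omega)
  have h3 : (3 : F) ≠ 0 := by simpa using hsmall 3 (by norm_num) (by omega)
  have h2q : (2 : F) ^ q = 2 := by
    have := map_ofNat (iterateFrobenius F p a) 2
    rwa [iterateFrobenius_def] at this
  have hQp : IsPGroup p (QS (q := q) Φ.e) := isPGroup_QS p hF Φ.hyp
  have hQi : ¬ p ∣ (QS (q := q) Φ.e).index := by
    have h1 := Subgroup.index_mul_card (QS (q := q) Φ.e)
    rw [Φ.card_QS' hF, Φ.card_SU3 hF] at h1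
    have h1' : (QS (q := q) Φ.e).index = (q ^ 3 + 1) * (q ^ 2 - 1) := by
      refine Nat.eq_of_mul_eq_mul_right (pow_pos (by omega : 0 < q) 3) (h1.trans ?_)
      ring
    rw [h1', (Fact.out : p.Prime).dvd_mul]
    rintro (h | h)
    · exact (Fact.out : p.Prime).not_dvd_one
        ((Nat.dvd_add_right (hpq.trans (dvd_pow_self q (by norm_num)))).1 h)
    · have h4 : 1 ≤ q ^ 2 := Nat.one_le_pow _ _ (by omega)
      have := Nat.dvd_sub (hpq.trans (dvd_pow_self q (two_ne_zero))) h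
      rw [show q ^ 2 - (q ^ 2 - 1) = 1 by omega] at this
      exact (Fact.out : p.Prime).not_dvd_one this
  set U := hQp.toSylow hQi
  have hU : ∀ x, x ∈ U ↔ x ∈ QS (q := q) Φ.e := fun x => Iff.rfl
  have hti : ∀ g : SU 3 F q, ∀ x ∈ U, g * x * g⁻¹ ∈ U → x ≠ 1 → g ∈ NS (q := q) Φ.e := by
    intro g x hx hgx hx1
    have hne : g * x * g⁻¹ ≠ 1 := fun e => hx1 (conj_eq_one_iff.1 e)
    obtain ⟨c, hc, hgc⟩ := Φ.eq_of_fix hF ((hU _).1 hgx) hne (IsoVec.map (isoVec_e Φ) g)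
      ⟨1, one_ne_zero, by
        rw [one_smul, Unitary.SU_mul_mulVec, Unitary.SU_mul_mulVec, Unitary.SU_inv_mulVec,
          ((hU x).1 hx).1]⟩
    exact ⟨c, hc, hgc⟩
  have hN : ∀ g : SU 3 F q, g • U = U ↔ g ∈ NS (q := q) Φ.e := by
    intro g
    constructor
    · intro h
      obtain ⟨x, hx, hx1⟩ : ∃ x ∈ U, x ≠ 1 := by
        by_contra hcon
        simp only [not_exists, not_and, not_not] at hcon
        have h1 : Nat.card (QS (q := q) Φ.e) = 1 := by
          rw [Subgroup.card_eq_one, Subgroup.eq_bot_iff_forall]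
          exact hcon
        rw [Φ.card_QS' hF] at h1
        have := Nat.one_lt_pow (by norm_num : (3 : ℕ) ≠ 0) (show 1 < q by omega)
        omega
      refine hti g x hx ?_ hx1
      rw [← h, mem_smul_sylow]
      simpa [mul_assoc] using hx
    · intro hg
      refine Sylow.ext (SetLike.ext fun x => ?_)
      show x ∈ g • U ↔ x ∈ U
      rw [mem_smul_sylow]
      constructor
      · intro hx
        simpa [mul_assoc] using (hU _).2 (NS_conj_QS hg ((hU _).1 hx))
      · intro hx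
        simpa [mul_assoc] using (hU _).2 (NS_conj_QS (inv_mem hg) ((hU _).1 hx))
  obtain ⟨h, hhe, hhf, -⟩ := exists_torus hF Φ.hyp le_rfl h2
  obtain ⟨w, hw⟩ := exists_pt hF Φ (v := Φ.f) ⟨Φ.f_ne hF, Φ.hyp.2.1⟩
  rw [h2q] at hhf
  have htc1 : ∀ X ∈ RS (q := q) Φ.e, ∀ Y ∈ RS (q := q) Φ.e, tc Φ.f X = tc Φ.f Y → X = Y := by
    intro X hX Y hY hXY
    have h1 := (exists_tc hF Φ.hyp hX).2
    have h2' := (exists_tc hF Φ.hyp hY).2
    rw [hXY] at h1
    exact suToGU_injective (h1.unique h2')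
  have hscale : ∀ X ∈ RS (q := q) Φ.e, tc Φ.f (h * X * h⁻¹) = 4 * tc Φ.f X := fun X hX => by
    rw [tc_conj hF Φ.hyp hhe hX, pow_succ, h2q]
    norm_num
  refine Rank1Data.of_sylow U (NS Φ.e) hN ?_ hti ?_ ⟨w, h, ?_, ?_, ?_, ?_, 4, ?_, ?_⟩
  · rw [Φ.index_NS hF]
    exact congrArg (· + 1) (Φ.card_QS' hF).symm
  · rw [eq_top_iff, ← suTransvections_closure hF le_rfl (by omega), Subgroup.closure_le]
    rintro A ⟨v, c, hv, hc, hA⟩
    by_cases hv0 : v = 0
    · have : A = 1 := suToGU_injective (GU_ext fun x => by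
        rw [hA x, hv0, smul_zero, add_zero, map_one, GU_one_mulVec])
      rw [this]
      exact one_mem _
    · obtain ⟨v', hv'⟩ := exists_hyp hF hv0 hv
      have hAQ : A ∈ QS (q := q) v := RS_le_QS hv ((mem_RS_iff hF hv').2 ⟨c, hc, hA⟩)
      obtain ⟨m, hm⟩ := isPGroup_QS p hF hv' ⟨A, hAQ⟩
      exact Subgroup.subset_closure ⟨m, by
        rw [Subtype.ext_iff, Subgroup.coe_pow, Subgroup.coe_one] at hm
        exact hm⟩
  · rintro ⟨c, hc, hwc⟩
    rw [hw] at hwc
    have h1 := Φ.hyp.symm' hF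
    rw [hwc, herm_smul_left, Φ.hyp.1, mul_zero] at h1
    exact zero_ne_one h1
  · exact ⟨2, h2, hhe⟩
  · refine ⟨2⁻¹, inv_ne_zero h2, ?_⟩
    rw [Unitary.SU_mul_mulVec, Unitary.SU_mul_mulVec, hw, hhf, Matrix.mulVec_smul, ← hw,
      Unitary.SU_inv_mulVec]
  · intro X hX hfX
    have hX' := (hU X).1 hX
    have h1 := Φ.al_conj hF hhe hX'
    rw [hfX, show (2 : F) ^ (2 * q - 1) = 2 by
      rw [show 2 * q - 1 = q + (q - 1) by omega, pow_add, h2q]
      apply mul_right_cancel₀ h2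
      rw [mul_assoc, ← pow_succ, Nat.sub_add_cancel (by omega : 1 ≤ q), h2q]] at h1
    have hXR : X ∈ RS (q := q) Φ.e := Φ.mem_RS_of_al hF hX' (by linear_combination -h1)
    have h4 := hscale X hXR
    rw [hfX] at h4
    have : (3 : F) * tc Φ.f X = 0 := by linear_combination -h4
    exact htc1 X hXR 1 (one_mem _) (by
      rw [tc_one hF Φ.hyp]; exact (mul_eq_zero.1 this).resolve_left h3)
  · intro hk
    have := (Nat.modEq_iff_dvd' (by norm_num : 1 ≤ 4)).1 hk.symm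
    exact absurd (Nat.le_of_dvd (by norm_num) this) (by omega)
  · intro c hc hcc
    have hcR : c ∈ RS (q := q) Φ.e :=
      mem_RS_of_commute hF Φ.hyp ((hU c).1 hc).1 fun X hX => hcc X ((hU X).2 hX)
    have hc2 : c * c ∈ RS (q := q) Φ.e := mul_mem hcR hcR
    refine htc1 _ (NS_conj_RS ⟨2, h2, hhe⟩ hcR) _ (pow_mem hcR 4) ?_
    rw [hscale c hcR, show c ^ 4 = c * c * (c * c) by simp [pow_succ, mul_assoc],
      tc_mul hF Φ.hyp hc2 hc2, tc_mul hF Φ.hyp hcR hcR]
    ring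

end Cfsg.Agent.Lib.RankOneCentre
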